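import Groth.Agent.CurveVA.Converse

/-!
Closed immersions into projective space: sections separating points and tangent vectors,
for an arbitrary proper scheme over an algebraically closed field.
-/

noncomputable section

set_option autoImplicit false
set_option linter.style.haveILetI false
set_option linter.unusedSectionVars false
set_option backward.isDefEq.respectTransparency false
set_option backward.isDefEq.respectTransparency.types false

universe u

open CategoryTheory CategoryTheory.Limits AlgebraicGeometry TopologicalSpace Opposite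
open HomogeneousLocalization (Away)

namespace Groth.Agent.ProjSep

open Groth.Agent Groth.Agent.InvX Groth.Agent.H23
open Groth.Agent.CurveVA (coord coord_smul_germ coord_smul coord_mem_of_frame sc Uc β)

section Stalk

variable {X : Scheme.{u}} {L : X.Modules}

theorem coord_smul_germ_self {U : X.Opens} {e : Γ(L, U)} (he : IsFrame e) {x : X} (hx : x ∈ U)
    (v : L.presheaf.stalk x) : coord he hx v • L.presheaf.germ U x hx e = v := by
  obtain ⟨c, rfl⟩ := (he.germ_bijective hx).2 v
  dsimp only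
  rw [coord_smul_germ]

theorem mem_smul_top_iff {U : X.Opens} {e : Γ(L, U)} (he : IsFrame e) {x : X} (hx : x ∈ U)
    (I : Ideal (X.presheaf.stalk x)) (v : L.presheaf.stalk x) :
    v ∈ I • (⊤ : Submodule (X.presheaf.stalk x) (L.presheaf.stalk x)) ↔ coord he hx v ∈ I := by
  constructor
  · intro h
    refine Submodule.smul_induction_on h (fun a ha m _ => ?_) fun a b ha hb => ?_
    · rw [coord_smul]; exact Ideal.mul_mem_right _ _ ha
    · rw [map_add]; exact add_mem ha hb
  · intro h
    rw [← coord_smul_germ_self he hx v]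
    exact Submodule.smul_mem_smul h trivial

end Stalk

variable {n : ℕ} {k : Type u} [Field k] {X : Scheme.{u}} [X.Over (Spec (CommRingCat.of k))]

local notation "𝒜" => CohB1.polyGrading n k
local notation "T" => (MvPolynomial.X : Fin (n + 1) → MvPolynomial (Fin (n + 1)) k)

variable (r : X ⟶ CohB1.ProjSpace n k)

/-- `r^* O(1)`. -/
abbrev Lr : X.Modules := (Scheme.Modules.pullback r).obj (Twist.twistProjSpace n k 1)

/-- The pulled back coordinates. -/
def sec (i : Fin (n + 1)) : Γ(Lr r, ⊤) := ProjUP.pullSec r (Twist.twistProjSpace n k 1) (ProjUP.coord n k i)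

/-- Their combinations with constant coefficients. -/
def comb (c : Fin (n + 1) → k) : Γ(Lr r, ⊤) :=
  ∑ i, ProjUP.toGlobal (X ↘ Spec (CommRingCat.of k)) (c i) • sec r i

theorem isFrame_sec (j : Fin (n + 1)) : IsFrame (AModX.res (Lr r) (le_top : Uc k r j ≤ ⊤) (sec r j)) :=
  TrivBasic.isFrame_res_of_le_locus (AmpleEmbed.preimage_chart r (Iso.refl _) j rfl).le

theorem exists_mem_Uc (x : X) : ∃ j, x ∈ Uc k r j :=
  (Opens.mem_iSup.1 (show r x ∈ ⨆ i, Proj.basicOpen 𝒜 (T i) from
    (AmpleEmbed.iSup_basicOpen_X n k).ge trivial)).imp fun _ h => h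

theorem res_sec (j l : Fin (n + 1)) : AModX.res (Lr r) (le_top : Uc k r j ≤ ⊤) (sec r l) =
    β k r j l • AModX.res (Lr r) (le_top : Uc k r j ≤ ⊤) (sec r j) := by
  obtain ⟨b, hb⟩ := (isFrame_sec r j).exists_coord le_rfl (AModX.res (Lr r) le_top (sec r l))
  rw [AModX.res_self] at hb
  refine hb.trans (congrArg (· • _) ?_)
  exact (AmpleEmbed.ratioOf_eq r (Iso.refl _) j l rfl rfl le_rfl b hb).symm

theorem toGlobal_eq_sc (c : k) : ProjUP.toGlobal (X ↘ Spec (CommRingCat.of k)) c = sc (X := X) k c := by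
  show _ = X.presheaf.map (𝟙 (op ⊤)) _
  rw [CategoryTheory.Functor.map_id]
  rfl

theorem exists_comb_sub (j l : Fin (n + 1)) (a : k) :
    ∃ c : Fin (n + 1) → k, comb r c = sec r l - sc (X := X) k a • sec r j := by
  classical
  refine ⟨fun i => (if i = l then 1 else 0) - (if i = j then a else 0), ?_⟩
  show ∑ i, _ = _
  simp only [map_sub, sub_smul, Finset.sum_sub_distrib]
  congr 1
  · rw [Finset.sum_eq_single l (fun i _ hi => by rw [if_neg hi, map_zero, zero_smul]) (by simp)]
    rw [if_pos rfl, map_one, one_smul]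
  · rw [Finset.sum_eq_single j (fun i _ hi => by rw [if_neg hi, map_zero, zero_smul]) (by simp)]
    rw [if_pos rfl, toGlobal_eq_sc]

variable [IsAlgClosed k] [IsProper (X ↘ Spec (CommRingCat.of k))]
  (hr : r ≫ CohB1.ProjSpace.toSpec n k = X ↘ Spec (CommRingCat.of k))

/-- The value of a function at a closed point. -/
def val {U : X.Opens} {x : X} (hx : x ∈ U) (hc : IsClosed ({x} : Set X)) : Γ(X, U) →+* k :=
  ((CurveVA.resInv k hc).comp (X.residue x).hom).comp (X.presheaf.germ U x hx).hom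

theorem val_sc {U : X.Opens} {x : X} (hx : x ∈ U) (hc : IsClosed ({x} : Set X)) (c : k) :
    val (k := k) hx hc (AModX.resR (le_top : U ≤ ⊤) (sc k c)) = c := by
  show CurveVA.resInv k hc (X.residue x (X.presheaf.germ U x hx _)) = c
  rw [InvX.germ_resR' (le_top : U ≤ ⊤) hx, CurveVA.germ_sc]
  exact CurveVA.resInv_resMap k hc c

theorem sub_val_mem {U : X.Opens} {x : X} (hx : x ∈ U) (hc : IsClosed ({x} : Set X)) (f : Γ(X, U)) (c : k) :
    X.presheaf.germ U x hx f - Curv2.stalkMap k X x c ∈ IsLocalRing.maximalIdeal (X.presheaf.stalk x) ↔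
      val (k := k) hx hc f = c := by
  rw [← CurveVA.resInv_eq_zero k hc, map_sub, map_sub, sub_eq_zero,
    show X.residue x (Curv2.stalkMap k X x c) = Curv2.resMap k X x c from rfl, CurveVA.resInv_resMap]
  rfl

theorem coord_sub {j l : Fin (n + 1)} {x : X} (hx : x ∈ Uc k r j) (a : k) :
    coord (isFrame_sec r j) hx ((Lr r).presheaf.germ ⊤ x trivial (sec r l - sc (X := X) k a • sec r j)) =
      X.presheaf.germ _ x hx (β k r j l) - Curv2.stalkMap k X x a := by
  rw [map_sub, map_sub]
  congr 1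
  · rw [← InvX.germ_res' (le_top : Uc k r j ≤ ⊤) hx (sec r l),
      congrArg ((Lr r).presheaf.germ _ x hx) (res_sec r j l), QCoh.germ_smul']
    exact coord_smul_germ _ hx _
  · rw [QCoh.germ_smul' (Lr r) (U := ⊤) (hx := (trivial : x ∈ (⊤ : X.Opens))), CurveVA.germ_sc,
      ← InvX.germ_res' (le_top : Uc k r j ≤ ⊤) hx (sec r j)]
    exact coord_smul_germ _ hx _

theorem coord_sec_self {j : Fin (n + 1)} {x : X} (hx : x ∈ Uc k r j) :
    coord (isFrame_sec r j) hx ((Lr r).presheaf.germ ⊤ x trivial (sec r j)) = 1 := by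
  rw [← InvX.germ_res' (le_top : Uc k r j ≤ ⊤) hx (sec r j), ← one_smul (X.presheaf.stalk x)
    ((Lr r).presheaf.germ _ x hx (AModX.res (Lr r) (le_top : Uc k r j ≤ ⊤) (sec r j))), coord_smul_germ]

theorem mem_locus_of_coord {U : X.Opens} {e : Γ(Lr r, U)} (he : IsFrame e) {x : X} (hx : x ∈ U) {z : Γ(Lr r, ⊤)}
    (h : coord he hx ((Lr r).presheaf.germ ⊤ x trivial z) ∉ IsLocalRing.maximalIdeal (X.presheaf.stalk x)) :
    x ∈ TrivBasic.locus z := by
  obtain ⟨γ, hγ⟩ := he.exists_coord le_rfl (AModX.res (Lr r) (le_top : U ≤ ⊤) z)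
  rw [AModX.res_self] at hγ
  have h2 : x ∈ TrivBasic.locus z ⊓ U := by
    rw [TrivBasic.locus_eq_basicOpen he hγ, X.mem_basicOpen _ x hx]
    rw [← InvX.germ_res' (le_top : U ≤ ⊤) hx z, hγ, QCoh.germ_smul', coord_smul_germ,
      IsLocalRing.mem_maximalIdeal] at h
    exact not_not.1 h
  exact h2.1

/-- `z` vanishes at `P` and not at `Q`. -/
def Sep (P Q : X) (z : Γ(Lr r, ⊤)) : Prop :=
  (Lr r).presheaf.germ ⊤ P trivial z ∈ IsLocalRing.maximalIdeal (X.presheaf.stalk P) •
      (⊤ : Submodule (X.presheaf.stalk P) ((Lr r).presheaf.stalk P)) ∧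
    (Lr r).presheaf.germ ⊤ Q trivial z ∉ IsLocalRing.maximalIdeal (X.presheaf.stalk Q) •
      (⊤ : Submodule (X.presheaf.stalk Q) ((Lr r).presheaf.stalk Q))

/-- The combinations separate tangent vectors at `P`. -/
def Tan (P : X) : Prop :=
  IsLocalRing.maximalIdeal (X.presheaf.stalk P) • (⊤ : Submodule (X.presheaf.stalk P) ((Lr r).presheaf.stalk P)) ≤
    Submodule.span (X.presheaf.stalk P)
      {v | ∃ c : Fin (n + 1) → k, v = (Lr r).presheaf.germ ⊤ P trivial (comb r c) ∧
        v ∈ IsLocalRing.maximalIdeal (X.presheaf.stalk P) •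
          (⊤ : Submodule (X.presheaf.stalk P) ((Lr r).presheaf.stalk P))} ⊔
    IsLocalRing.maximalIdeal (X.presheaf.stalk P) ^ 2 •
      (⊤ : Submodule (X.presheaf.stalk P) ((Lr r).presheaf.stalk P))

section Forward

variable [IsClosedImmersion r]

include hr in
/-- Closed immersions separate points. -/
theorem exists_sep {a b : X} (hac : IsClosed ({a} : Set X)) (hbc : IsClosed ({b} : Set X)) (hne : a ≠ b) :
    ∃ c : Fin (n + 1) → k, Sep r a b (comb r c) := by
  obtain ⟨j, hjb⟩ := exists_mem_Uc r b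
  by_cases hja : a ∈ Uc k r j
  · suffices h : ∃ l, val hja hac (β k r j l) ≠ val (k := k) hjb hbc (β k r j l) by
      obtain ⟨l, hl⟩ := h
      obtain ⟨c, hc⟩ := exists_comb_sub r j l (val (k := k) hja hac (β k r j l))
      refine ⟨c, ?_, fun h => hl ?_⟩
      · rw [mem_smul_top_iff (isFrame_sec r j) hja, hc, coord_sub]
        exact (sub_val_mem hja hac _ _).2 rfl
      · rw [mem_smul_top_iff (isFrame_sec r j) hjb, hc, coord_sub] at h
        exact ((sub_val_mem hjb hbc _ _).1 h).symm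
    by_contra! hall
    have htop := CurveVA.subring_eq_top k r hr j (RingHom.eqLocus (val (k := k) hja hac) (val (k := k) hjb hbc))
      (fun c => (val_sc hja hac c).trans (val_sc hjb hbc c).symm) hall
    have haff : IsAffineOpen (Uc k r j) :=
      (Proj.isAffineOpen_basicOpen 𝒜 (T j) (ProjPt.X_mem j) one_pos).preimage r
    obtain ⟨f, hf, hbf⟩ := haff.exists_basicOpen_le (V := ⟨({a} : Set X)ᶜ, hac.isOpen_compl⟩)
      ⟨b, fun h => hne (Set.mem_singleton_iff.1 h).symm⟩ hjb
    have haf : a ∉ X.basicOpen f := fun h => hf h rfl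
    have h0 : val (k := k) hja hac f = 0 := by
      rw [X.mem_basicOpen _ a hja] at haf
      exact (CurveVA.resInv_eq_zero k hac _).2 ((IsLocalRing.mem_maximalIdeal _).2 haf)
    have h0' : val (k := k) hjb hbc f ≠ 0 := fun h => by
      rw [X.mem_basicOpen _ b hjb] at hbf
      exact (IsLocalRing.mem_maximalIdeal _).1 ((CurveVA.resInv_eq_zero k hbc _).1 h) hbf
    exact h0' ((show f ∈ RingHom.eqLocus (val (k := k) hja hac) (val (k := k) hjb hbc) from
      htop ▸ Subring.mem_top f).symm.trans h0)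
  · obtain ⟨c, hc⟩ := exists_comb_sub r j j 0
    replace hc : comb r c = sec r j := by
      rw [hc, show sc (X := X) k (0 : k) = 0 from by rw [← toGlobal_eq_sc, map_zero], zero_smul, sub_zero]
    refine ⟨c, ?_, fun h => ?_⟩
    · obtain ⟨U, ha, e, he⟩ : ∃ (U : X.Opens) (_ : a ∈ U) (e : Γ(Lr r, U)), IsFrame e := by
        obtain ⟨i, hi⟩ := exists_mem_Uc r a
        exact ⟨_, hi, _, isFrame_sec r i⟩
      rw [mem_smul_top_iff he ha, hc]
      by_contra h
      exact hja ((AmpleEmbed.preimage_chart r (Iso.refl _) j rfl).ge (mem_locus_of_coord r he ha h))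
    · rw [mem_smul_top_iff (isFrame_sec r j) hjb, hc, coord_sec_self] at h
      exact (IsLocalRing.maximalIdeal.isMaximal _).ne_top ((Ideal.eq_top_iff_one _).2 h)

include hr in
/-- Closed immersions separate tangent vectors. -/
theorem tan_of_isClosedImmersion {a : X} (hac : IsClosed ({a} : Set X)) : Tan r a := by
  obtain ⟨j, hja⟩ := exists_mem_Uc r a
  set R := Submodule.span (X.presheaf.stalk a)
      {v | ∃ c : Fin (n + 1) → k, v = (Lr r).presheaf.germ ⊤ a trivial (comb r c) ∧
        v ∈ IsLocalRing.maximalIdeal (X.presheaf.stalk a) •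
          (⊤ : Submodule (X.presheaf.stalk a) ((Lr r).presheaf.stalk a))} ⊔
    IsLocalRing.maximalIdeal (X.presheaf.stalk a) ^ 2 •
      (⊤ : Submodule (X.presheaf.stalk a) ((Lr r).presheaf.stalk a)) with hR
  let N : Ideal (X.presheaf.stalk a) :=
    R.comap (LinearMap.toSpanSingleton (X.presheaf.stalk a) _
      ((Lr r).presheaf.germ _ a hja (AModX.res (Lr r) (le_top : Uc k r j ≤ ⊤) (sec r j))))
  suffices hmN : IsLocalRing.maximalIdeal (X.presheaf.stalk a) ≤ N by
    intro v hv
    rw [mem_smul_top_iff (isFrame_sec r j) hja] at hv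
    rw [← coord_smul_germ_self (isFrame_sec r j) hja v]
    exact hmN hv
  by_contra hlt
  have hall : ∀ l, X.presheaf.germ _ a hja (β k r j l) -
      Curv2.stalkMap k X a (val (k := k) hja hac (β k r j l)) ∈ N := by
    intro l
    obtain ⟨c, hc⟩ := exists_comb_sub r j l (val (k := k) hja hac (β k r j l))
    show LinearMap.toSpanSingleton _ _ _ _ ∈ R
    rw [LinearMap.toSpanSingleton_apply, ← coord_sub r hja (val (k := k) hja hac (β k r j l)), coord_smul_germ_self]
    refine Submodule.mem_sup_left (Submodule.subset_span ⟨c, by rw [hc], ?_⟩)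
    rw [mem_smul_top_iff (isFrame_sec r j) hja, coord_sub]
    exact (sub_val_mem hja hac _ _).2 rfl
  let q : Γ(X, Uc k r j) →+* X.presheaf.stalk a ⧸ N :=
    (Ideal.Quotient.mk N).comp (X.presheaf.germ _ a hja).hom
  have htop := CurveVA.subring_eq_top k r hr j
    (((Ideal.Quotient.mk N).comp (Curv2.stalkMap k X a)).range.comap q)
    (fun c => ⟨c, by
      show Ideal.Quotient.mk N _ = Ideal.Quotient.mk N (X.presheaf.germ _ a hja _)
      rw [InvX.germ_resR' (le_top : Uc k r j ≤ ⊤) hja, CurveVA.germ_sc]⟩)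
    (fun l => ⟨_, (Ideal.Quotient.eq.2 (hall l)).symm⟩)
  have hN : N ≤ IsLocalRing.maximalIdeal (X.presheaf.stalk a) :=
    IsLocalRing.le_maximalIdeal fun h => hlt (h ▸ le_top)
  refine hlt fun x hx => ?_
  have haff : IsAffineOpen (Uc k r j) :=
    (Proj.isAffineOpen_basicOpen 𝒜 (T j) (ProjPt.X_mem j) one_pos).preimage r
  letI : Algebra Γ(X, Uc k r j) (X.presheaf.stalk a) := TopCat.Presheaf.algebra_section_stalk X.presheaf ⟨a, hja⟩
  haveI := haff.isLocalization_stalk ⟨a, hja⟩
  obtain ⟨⟨f, g⟩, hfg⟩ := IsLocalization.surj (haff.primeIdealOf ⟨a, hja⟩).asIdeal.primeCompl x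
  have hgu : IsUnit (X.presheaf.germ _ a hja (g : Γ(X, Uc k r j))) :=
    IsLocalization.map_units (X.presheaf.stalk a) g
  have hfm : X.presheaf.germ _ a hja f ∈ IsLocalRing.maximalIdeal (X.presheaf.stalk a) :=
    (show X.presheaf.germ _ a hja f = _ from hfg.symm) ▸ Ideal.mul_mem_right _ _ hx
  obtain ⟨c, hc⟩ := (htop ▸ Subring.mem_top f :
    f ∈ ((Ideal.Quotient.mk N).comp (Curv2.stalkMap k X a)).range.comap q)
  have hcN : X.presheaf.germ _ a hja f - Curv2.stalkMap k X a c ∈ N := Ideal.Quotient.eq.1 hc.symm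
  have hcm : Curv2.stalkMap k X a c ∈ IsLocalRing.maximalIdeal (X.presheaf.stalk a) := by
    simpa using sub_mem hfm (hN hcN)
  have hc0 : c = 0 := by
    by_contra h
    exact (IsLocalRing.mem_maximalIdeal _).1 hcm ((isUnit_iff_ne_zero.2 h).map _)
  rw [hc0, map_zero, sub_zero] at hcN
  exact (Ideal.mul_unit_mem_iff_mem _ hgu).1
    ((show x * X.presheaf.germ _ a hja (g : Γ(X, Uc k r j)) = _ from hfg) ▸ hcN)

end Forward

include hr in
/-- Combinations are coordinates of functions on the charts of the target. -/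
theorem exists_res_comb (j : Fin (n + 1)) (c : Fin (n + 1) → k) :
    ∃ s : Γ(CohB1.ProjSpace n k, Proj.basicOpen 𝒜 (T j)),
      AModX.res (Lr r) (le_top : Uc k r j ≤ ⊤) (comb r c) =
        (show Γ(X, Uc k r j) from r.app _ s) • AModX.res (Lr r) (le_top : Uc k r j ≤ ⊤) (sec r j) := by
  let u : Fin (n + 1) → Γ(CohB1.ProjSpace n k, Proj.basicOpen 𝒜 (T j)) := fun l =>
    (CohB1.ProjSpace.toSpec n k).appLE ⊤ (Proj.basicOpen 𝒜 (T j)) le_top
      ((Scheme.ΓSpecIso (CommRingCat.of k)).inv (c l))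
  let w : Fin (n + 1) → Γ(CohB1.ProjSpace n k, Proj.basicOpen 𝒜 (T j)) := fun l =>
    (Proj.awayToSection 𝒜 (T j)).hom (ZetaLib.coord n k j l)
  refine ⟨∑ l, u l * w l, ?_⟩
  show AModX.res (Lr r) _ (∑ l, _) = _
  rw [map_sum, map_sum, Finset.sum_smul]
  refine Finset.sum_congr rfl fun l _ => ?_
  rw [AModX.res_smul, res_sec r j l, ← mul_smul, toGlobal_eq_sc, map_mul]
  congr 1
  congr 1
  · rw [← Scheme.Hom.appLE_eq_app, ← CommRingCat.comp_apply, Scheme.Hom.appLE_comp_appLE]
    simp only [hr]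
    show X.presheaf.map _ (X.presheaf.map (𝟙 (op ⊤)) ((X ↘ Spec (CommRingCat.of k)).appTop _)) =
      (X ↘ Spec (CommRingCat.of k)).appLE ⊤ _ _ ((Scheme.ΓSpecIso (CommRingCat.of k)).inv (c l))
    rw [CategoryTheory.Functor.map_id]
    rfl
  · rw [← Scheme.Hom.appLE_eq_app]
    rfl

include hr in
/-- Sections separating points and tangent vectors give a closed immersion. -/
theorem isClosedImmersion_of_sep
    (hsep : ∀ P Q : X, IsClosed ({P} : Set X) → IsClosed ({Q} : Set X) → P ≠ Q →
      ∃ c : Fin (n + 1) → k, Sep r P Q (comb r c) ∨ Sep r Q P (comb r c))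
    (htan : ∀ P : X, IsClosed ({P} : Set X) → Tan r P) : IsClosedImmersion r := by
  haveI hp : IsProper (CohB1.ProjSpace.toSpec n k) := PnCoh.Chow.isProper_toSpec n k
  haveI : IsProper r := by
    haveI : IsProper (r ≫ CohB1.ProjSpace.toSpec n k) := by rw [hr]; infer_instance
    exact IsProper.of_comp r (CohB1.ProjSpace.toSpec n k)
  haveI : LocallyOfFiniteType (r ≫ CohB1.ProjSpace.toSpec n k) := by rw [hr]; infer_instance
  have key : ∀ (j : Fin (n + 1)) (x : X) (hx : x ∈ Uc k r j) (c : Fin (n + 1) → k)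
      (s : Γ(CohB1.ProjSpace n k, Proj.basicOpen 𝒜 (T j))),
      AModX.res (Lr r) (le_top : Uc k r j ≤ ⊤) (comb r c) =
        (show Γ(X, Uc k r j) from r.app _ s) • AModX.res (Lr r) (le_top : Uc k r j ≤ ⊤) (sec r j) →
      coord (isFrame_sec r j) hx ((Lr r).presheaf.germ ⊤ x trivial (comb r c)) =
        r.stalkMap x ((CohB1.ProjSpace n k).presheaf.germ _ (r x) hx s) := by
    intro j x hx c s h
    rw [← InvX.germ_res' (le_top : Uc k r j ≤ ⊤) hx (comb r c), h, QCoh.germ_smul', coord_smul_germ,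
      Scheme.Hom.germ_stalkMap_apply]
    rfl
  refine S10867.result k r (CohB1.ProjSpace.toSpec n k) (fun a ha b hb hab => ?_) fun a ha => ?_
  · by_contra hne
    obtain ⟨j, hja⟩ := exists_mem_Uc r a
    have hjb : b ∈ Uc k r j := (show r b ∈ Proj.basicOpen 𝒜 (T j) from (hab : r a = r b) ▸ hja)
    obtain ⟨c, hc⟩ := hsep a b ha hb hne
    obtain ⟨s, hs⟩ := exists_res_comb r hr j c
    have hiff : ∀ (x : X) (hx : x ∈ Uc k r j), (Lr r).presheaf.germ ⊤ x trivial (comb r c) ∈
        IsLocalRing.maximalIdeal (X.presheaf.stalk x) • (⊤ : Submodule (X.presheaf.stalk x) ((Lr r).presheaf.stalk x)) ↔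
        r x ∉ (CohB1.ProjSpace n k).basicOpen s := by
      intro x hx
      rw [mem_smul_top_iff (isFrame_sec r j) hx, key j x hx c s hs,
        (CohB1.ProjSpace n k).mem_basicOpen _ (r x) hx, IsLocalRing.mem_maximalIdeal, mem_nonunits_iff,
        isUnit_map_iff]
    rcases hc with ⟨h1, h2⟩ | ⟨h1, h2⟩
    · rw [hiff b hjb, not_not] at h2
      exact (hiff a hja).1 h1 ((hab : r a = r b) ▸ h2)
    · rw [hiff a hja, not_not] at h2
      exact (hiff b hjb).1 h1 ((hab : r a = r b).symm ▸ h2)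
  · set M := Ideal.map (r.stalkMap a).hom
      (IsLocalRing.maximalIdeal ((CohB1.ProjSpace n k).presheaf.stalk (r a))) ⊔
        IsLocalRing.maximalIdeal (X.presheaf.stalk a) ^ 2 with hM
    refine le_antisymm (sup_le ?_ (Ideal.pow_le_self two_ne_zero)) fun x hx => ?_
    · rw [Ideal.map_le_iff_le_comap]
      intro s hs
      exact (IsLocalRing.mem_maximalIdeal _).2 fun h =>
        (IsLocalRing.mem_maximalIdeal _).1 hs ((isUnit_map_iff (r.stalkMap a).hom s).1 h)
    obtain ⟨j, hja⟩ := exists_mem_Uc r a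
    have h1 : x • (Lr r).presheaf.germ _ a hja (AModX.res (Lr r) (le_top : Uc k r j ≤ ⊤) (sec r j)) ∈
        M • (⊤ : Submodule (X.presheaf.stalk a) ((Lr r).presheaf.stalk a)) := by
      refine (htan a ha).trans (sup_le ?_ (Submodule.smul_mono_left le_sup_right)) (Submodule.smul_mem_smul hx trivial)
      refine Submodule.span_le.2 ?_
      rintro v ⟨c, rfl, hv⟩
      obtain ⟨s, hs⟩ := exists_res_comb r hr j c
      rw [mem_smul_top_iff (isFrame_sec r j) hja, key j a hja c s hs] at hv
      rw [SetLike.mem_coe, mem_smul_top_iff (isFrame_sec r j) hja, key j a hja c s hs]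
      refine Ideal.mem_sup_left (Ideal.mem_map_of_mem _ ((IsLocalRing.mem_maximalIdeal _).2 fun h => ?_))
      exact (IsLocalRing.mem_maximalIdeal _).1 hv (h.map (r.stalkMap a).hom)
    rwa [mem_smul_top_iff (isFrame_sec r j) hja, coord_smul_germ] at h1

end Groth.Agent.ProjSep
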